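import Cfsg.Agent.SchurCert.Cert

/-!
Data: two tables of lattice automorphisms and four vectors of the sublattice on the base octad.
-/

set_option autoImplicit false
set_option maxRecDepth 100000

namespace Cfsg.Agent.SuzCentInv

/-- An automorphism taking the standard involution to the involution. -/
def tabH : List (List ℤ) := [
    [2, 0, 0, 0, 2, 0, 0, 0, 0, 0, 0, 0, 0, 2, -2, 0, 0, 0, 6, 2, -2, 0, -2, 0],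
    [0, -2, 2, -2, 0, 2, 2, -2, -2, 2, -2, -2, 2, 0, 0, -2, 2, -2, 0, 0, 0, 2, 0, 2],
    [2, 0, 0, 0, 2, 0, 0, 0, 0, 0, 0, 0, 0, 2, -2, 0, 0, 0, -2, 2, 6, 0, -2, 0],
    [0, -2, 2, -2, 0, -2, 2, 2, -2, -2, 2, 2, 2, 0, 0, 2, -2, -2, 0, 0, 0, 2, 0, -2],
    [-2, 0, 0, 0, -2, 0, 0, 0, 0, 0, 0, 0, 0, 6, 2, 0, 0, 0, 2, -2, 2, 0, 2, 0],
    [0, 2, 2, 2, 0, -2, 2, 2, 2, 2, 2, -2, 2, 0, 0, -2, -2, 2, 0, 0, 0, 2, 0, 2],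
    [0, 2, 2, -2, 0, 2, 2, 2, 2, -2, 2, -2, -2, 0, 0, -2, 2, -2, 0, 0, 0, -2, 0, -2],
    [0, 2, -2, 2, 0, -2, 2, 2, -2, -2, -2, -2, 2, 0, 0, 2, 2, -2, 0, 0, 0, -2, 0, 2],
    [0, 2, 2, 2, 0, 2, 2, -2, 2, -2, -2, 2, 2, 0, 0, 2, 2, 2, 0, 0, 0, 2, 0, -2],
    [-2, 0, 0, 0, -2, 0, 0, 0, 0, 0, 0, 0, 0, -2, 2, 0, 0, 0, 2, -2, 2, 0, -6, 0],
    [0, 2, -2, 2, 0, 2, 2, -2, -2, 2, 2, 2, 2, 0, 0, -2, -2, -2, 0, 0, 0, -2, 0, -2],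
    [-2, 0, 0, 0, -2, 0, 0, 0, 0, 0, 0, 0, 0, -2, -6, 0, 0, 0, 2, -2, 2, 0, 2, 0],
    [6, 0, 0, 0, -2, 0, 0, 0, 0, 0, 0, 0, 0, -2, 2, 0, 0, 0, 2, -2, 2, 0, 2, 0],
    [2, 0, 0, 0, 2, 0, 0, 0, 0, 0, 0, 0, 0, 2, -2, 0, 0, 0, -2, -6, -2, 0, -2, 0],
    [0, 2, -2, -2, 0, -2, -2, -2, 2, -2, -2, -2, 2, 0, 0, -2, -2, -2, 0, 0, 0, 2, 0, -2],
    [0, 2, -2, -2, 0, 2, -2, 2, 2, 2, 2, 2, 2, 0, 0, 2, 2, -2, 0, 0, 0, 2, 0, 2],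
    [0, 2, 2, 2, 0, -2, -2, 2, -2, 2, -2, 2, -2, 0, 0, -2, 2, -2, 0, 0, 0, 2, 0, -2],
    [0, 2, 2, 2, 0, 2, -2, -2, -2, -2, 2, -2, -2, 0, 0, 2, -2, -2, 0, 0, 0, 2, 0, 2],
    [0, -2, -2, 2, 0, -2, 2, -2, 2, 2, 2, -2, -2, 0, 0, 2, 2, -2, 0, 0, 0, 2, 0, -2],
    [0, 2, -2, -2, 0, 2, 2, 2, -2, 2, -2, -2, -2, 0, 0, 2, -2, 2, 0, 0, 0, 2, 0, -2],
    [2, 0, 0, 0, -6, 0, 0, 0, 0, 0, 0, 0, 0, 2, -2, 0, 0, 0, -2, 2, -2, 0, -2, 0],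
    [0, -2, -2, 2, 0, 2, 2, 2, 2, -2, -2, 2, -2, 0, 0, -2, -2, -2, 0, 0, 0, 2, 0, 2],
    [0, 2, 2, -2, 0, -2, 2, -2, 2, 2, -2, 2, -2, 0, 0, 2, -2, -2, 0, 0, 0, -2, 0, 2],
    [0, 2, -2, -2, 0, -2, 2, -2, -2, -2, 2, 2, -2, 0, 0, -2, 2, 2, 0, 0, 0, 2, 0, 2]]

/-- The conjugate of the central element of order three. -/
def tabW : List (List ℤ) := [
    [-4, 0, -4, 0, 0, 0, 0, 0, 0, 0, 0, 0, 0, 0, -4, 0, 0, -4, 0, 0, 0, 0, 0, 0],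
    [0, -4, 0, 4, 0, -4, 0, 0, 0, 0, 0, 0, 0, 0, 0, 0, 0, 0, 0, 0, 0, 0, 0, 4],
    [4, 0, -4, 0, 0, 0, 0, 0, 0, 0, 0, 0, 0, 0, -4, 0, 0, 4, 0, 0, 0, 0, 0, 0],
    [0, -4, 0, -4, 0, 4, 0, 0, 0, 0, 0, 0, 0, 0, 0, 0, 0, 0, 0, 0, 0, 0, 0, 4],
    [0, 0, 0, 0, -4, 0, 0, 0, 0, 4, -4, 0, 0, 0, 0, 0, 0, 0, 0, 0, 0, 0, 4, 0],
    [0, 4, 0, -4, 0, -4, 0, 0, 0, 0, 0, 0, 0, 0, 0, 0, 0, 0, 0, 0, 0, 0, 0, 4],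
    [0, 0, 0, 0, 0, 0, -4, 4, 0, 0, 0, -4, 4, 0, 0, 0, 0, 0, 0, 0, 0, 0, 0, 0],
    [0, 0, 0, 0, 0, 0, -4, -4, 0, 0, 0, -4, -4, 0, 0, 0, 0, 0, 0, 0, 0, 0, 0, 0],
    [0, 0, 0, 0, 0, 0, 0, 0, -4, 0, 0, 0, 0, 0, 0, 0, 0, 0, 4, 4, 0, -4, 0, 0],
    [0, 0, 0, 0, -4, 0, 0, 0, 0, -4, 4, 0, 0, 0, 0, 0, 0, 0, 0, 0, 0, 0, 4, 0],
    [0, 0, 0, 0, 4, 0, 0, 0, 0, -4, -4, 0, 0, 0, 0, 0, 0, 0, 0, 0, 0, 0, 4, 0],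
    [0, 0, 0, 0, 0, 0, 4, 4, 0, 0, 0, -4, -4, 0, 0, 0, 0, 0, 0, 0, 0, 0, 0, 0],
    [0, 0, 0, 0, 0, 0, -4, 4, 0, 0, 0, 4, -4, 0, 0, 0, 0, 0, 0, 0, 0, 0, 0, 0],
    [0, 0, 0, 0, 0, 0, 0, 0, 0, 0, 0, 0, 0, -4, 0, -4, -4, 0, 0, 0, -4, 0, 0, 0],
    [4, 0, 4, 0, 0, 0, 0, 0, 0, 0, 0, 0, 0, 0, -4, 0, 0, -4, 0, 0, 0, 0, 0, 0],
    [0, 0, 0, 0, 0, 0, 0, 0, 0, 0, 0, 0, 0, 4, 0, -4, 4, 0, 0, 0, -4, 0, 0, 0],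
    [0, 0, 0, 0, 0, 0, 0, 0, 0, 0, 0, 0, 0, 4, 0, -4, -4, 0, 0, 0, 4, 0, 0, 0],
    [4, 0, -4, 0, 0, 0, 0, 0, 0, 0, 0, 0, 0, 0, 4, 0, 0, -4, 0, 0, 0, 0, 0, 0],
    [0, 0, 0, 0, 0, 0, 0, 0, -4, 0, 0, 0, 0, 0, 0, 0, 0, 0, -4, 4, 0, 4, 0, 0],
    [0, 0, 0, 0, 0, 0, 0, 0, -4, 0, 0, 0, 0, 0, 0, 0, 0, 0, -4, -4, 0, -4, 0, 0],
    [0, 0, 0, 0, 0, 0, 0, 0, 0, 0, 0, 0, 0, 4, 0, 4, -4, 0, 0, 0, -4, 0, 0, 0],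
    [0, 0, 0, 0, 0, 0, 0, 0, 4, 0, 0, 0, 0, 0, 0, 0, 0, 0, -4, 4, 0, -4, 0, 0],
    [0, 0, 0, 0, -4, 0, 0, 0, 0, -4, -4, 0, 0, 0, 0, 0, 0, 0, 0, 0, 0, 0, -4, 0],
    [0, -4, 0, -4, 0, -4, 0, 0, 0, 0, 0, 0, 0, 0, 0, 0, 0, 0, 0, 0, 0, 0, 0, -4]]

/-- Four vectors of the sublattice on the octad, each with its image. -/
def chainVecs : List (List ℤ) := [
    [4, 0, -4, 0, 0, 0, 0, 0, 0, 0, 0, 0, 0, 0, 0, 0, 0, 0, 0, 0, 0, 0, 0, 0],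
    [-4, 0, 0, 0, 0, 0, 0, 0, 0, 0, 0, 0, 0, 0, 0, 0, 0, -4, 0, 0, 0, 0, 0, 0],
    [-4, 0, -4, 0, 0, 0, 0, 0, 0, 0, 0, 0, 0, 0, 0, 0, 0, 0, 0, 0, 0, 0, 0, 0],
    [0, 0, 4, 0, 0, 0, 0, 0, 0, 0, 0, 0, 0, 0, 4, 0, 0, 0, 0, 0, 0, 0, 0, 0],
    [0, -4, 4, 0, 0, 0, 0, 0, 0, 0, 0, 0, 0, 0, 0, 0, 0, 0, 0, 0, 0, 0, 0, 0],
    [2, 2, -2, -2, 0, 2, 0, 0, 0, 0, 0, 0, 0, 0, -2, 0, 0, 2, 0, 0, 0, 0, 0, -2],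
    [4, 0, 0, 0, 0, 4, 0, 0, 0, 0, 0, 0, 0, 0, 0, 0, 0, 0, 0, 0, 0, 0, 0, 0],
    [-2, 2, -2, -2, 0, -2, 0, 0, 0, 0, 0, 0, 0, 0, -2, 0, 0, -2, 0, 0, 0, 0, 0, 2]]

/-- Expressions for the frame vectors on the octad. -/
def chainCoef : List (List ℤ) := [
    [1, 0, -1, 0, 0, 0, 0, 0],
    [-1, 0, -1, 0, -2, 0, 0, 0],
    [-1, 0, -1, 0, 0, 0, 0, 0],
    [-1, 0, -1, -2, -2, -2, 0, -2],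
    [-1, 0, 1, 0, 0, 0, 2, 0],
    [1, 0, 1, 2, 0, 0, 0, 0],
    [-1, -2, 1, 0, 0, 0, 0, 0],
    [-1, -2, 1, 0, 0, -2, 2, 2]]

end Cfsg.Agent.SuzCentInv
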